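import Mathlib

set_option autoImplicit false

universe u v

namespace Groth.Agent.H8.Rigid

open WittVector

section Universal

variable {p : ℕ} [hp : Fact p.Prime] {T : Type u} [CommRing T]

theorem ghostComponent_eq_sum (x : WittVector p T) (n : ℕ) :
    ghostComponent n x = ∑ i ∈ Finset.range (n + 1), (p : T) ^ i * x.coeff i ^ p ^ (n - i) := by
  rw [ghostComponent_apply, aeval_wittPolynomial]

theorem pow_mul_cancel (hT : ∀ t : T, (p : T) * t = 0 → t = 0) (n : ℕ) {s t : T}
    (h : (p : T) ^ n * s = (p : T) ^ n * t) : s = t := by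
  induction n with
  | zero => simpa using h
  | succ n ih =>
    apply ih
    rw [← sub_eq_zero, ← mul_sub]
    apply hT
    rw [← mul_assoc, ← pow_succ', mul_sub, sub_eq_zero]
    exact h

/-- ghost map is injective for `p`-torsion-free rings. -/
theorem ghost_injective (hT : ∀ t : T, (p : T) * t = 0 → t = 0) {x y : WittVector p T}
    (h : ∀ n, ghostComponent n x = ghostComponent n y) : x = y := by
  ext n
  induction n using Nat.strong_induction_on with
  | _ n ih =>
    have h1 := h n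
    rw [ghostComponent_eq_sum, ghostComponent_eq_sum, Finset.sum_range_succ, Finset.sum_range_succ] at h1
    have h2 : ∑ i ∈ Finset.range n, (p : T) ^ i * x.coeff i ^ p ^ (n - i) =
        ∑ i ∈ Finset.range n, (p : T) ^ i * y.coeff i ^ p ^ (n - i) :=
      Finset.sum_congr rfl fun i hi => by rw [ih i (Finset.mem_range.mp hi)]
    rw [h2, add_right_inj, Nat.sub_self, pow_zero, pow_one, pow_one] at h1
    exact pow_mul_cancel hT n h1

variable (𝔫 : Ideal T) (h𝔫 : ∀ x ∈ 𝔫, ∀ y ∈ 𝔫, x * y = 0)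

include h𝔫 in
theorem pow_eq_zero_of_mem {x : T} (hx : x ∈ 𝔫) {k : ℕ} (hk : 2 ≤ k) : x ^ k = 0 := by
  obtain ⟨d, rfl⟩ := Nat.exists_eq_add_of_le hk
  rw [pow_add, pow_two, h𝔫 x hx x hx, zero_mul]

include h𝔫 in
theorem ghostComponent_of_mem {z : WittVector p T} (hz : ∀ n, z.coeff n ∈ 𝔫) (n : ℕ) :
    ghostComponent n z = (p : T) ^ n * z.coeff n := by
  rw [ghostComponent_eq_sum, Finset.sum_range_succ, Nat.sub_self, pow_zero, pow_one]
  rw [Finset.sum_eq_zero, zero_add]
  intro i hi
  have hi' := Finset.mem_range.mp hi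
  have : 2 ≤ p ^ (n - i) := by
    calc 2 ≤ p := hp.1.two_le
      _ = p ^ 1 := (pow_one p).symm
      _ ≤ p ^ (n - i) := Nat.pow_le_pow_right hp.1.pos (by omega)
  rw [pow_eq_zero_of_mem 𝔫 h𝔫 (hz i) this, mul_zero]

include h𝔫 in
theorem coeff_add_univ (hT : ∀ t : T, (p : T) * t = 0 → t = 0) {a b : WittVector p T}
    (ha : ∀ n, a.coeff n ∈ 𝔫) (hb : ∀ n, b.coeff n ∈ 𝔫) (n : ℕ) :
    (a + b).coeff n = a.coeff n + b.coeff n := by
  have key : a + b = WittVector.mk p (fun n => a.coeff n + b.coeff n) := by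
    apply ghost_injective hT
    intro n
    rw [map_add, ghostComponent_of_mem 𝔫 h𝔫 ha, ghostComponent_of_mem 𝔫 h𝔫 hb,
      ghostComponent_of_mem 𝔫 h𝔫 (z := WittVector.mk p fun n => a.coeff n + b.coeff n)
        (fun n => by rw [coeff_mk]; exact 𝔫.add_mem (ha n) (hb n)), coeff_mk, mul_add]
  rw [key, coeff_mk]

include h𝔫 in
theorem coeff_mul_univ (hT : ∀ t : T, (p : T) * t = 0 → t = 0) (ξ : WittVector p T)
    {a : WittVector p T} (ha : ∀ n, a.coeff n ∈ 𝔫) (n : ℕ) :
    (ξ * a).coeff n = ghostComponent n ξ * a.coeff n := by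
  have key : ξ * a = WittVector.mk p (fun n => ghostComponent n ξ * a.coeff n) := by
    apply ghost_injective hT
    intro n
    rw [map_mul, ghostComponent_of_mem 𝔫 h𝔫 ha,
      ghostComponent_of_mem 𝔫 h𝔫 (z := WittVector.mk p fun n => ghostComponent n ξ * a.coeff n)
        (fun n => by rw [coeff_mk]; exact 𝔫.mul_mem_left _ (ha n)), coeff_mk]
    ring
  rw [key, coeff_mk]

include h𝔫 in
theorem coeff_frobenius_univ (hT : ∀ t : T, (p : T) * t = 0 → t = 0)
    {a : WittVector p T} (ha : ∀ n, a.coeff n ∈ 𝔫) (n : ℕ) :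
    (frobenius a).coeff n = (p : T) * a.coeff (n + 1) := by
  have key : frobenius a = WittVector.mk p (fun n => (p : T) * a.coeff (n + 1)) := by
    apply ghost_injective hT
    intro n
    rw [ghostComponent_frobenius, ghostComponent_of_mem 𝔫 h𝔫 ha,
      ghostComponent_of_mem 𝔫 h𝔫 (z := WittVector.mk p fun n => (p : T) * a.coeff (n + 1))
        (fun n => by rw [coeff_mk]; exact 𝔫.mul_mem_left _ (ha _)), coeff_mk, pow_succ]
    ring
  rw [key, coeff_mk]

end Universal

end Groth.Agent.H8.Rigid
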