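import Mathlib
import Groth.Agent.Lib.Helper8.Rigid.SqZ

set_option autoImplicit false

universe u v

namespace Groth.Agent.H8.Rigid

open WittVector

section Transfer

/-- universal base ring -/
abbrev R₀ := MvPolynomial ℕ ℤ
/-- universal module -/
abbrev M₀ := (ℕ ⊕ ℕ) →₀ R₀
/-- universal square-zero extension -/
abbrev T₀ := TrivSqZeroExt R₀ M₀

theorem T₀_torsionFree (p : ℕ) [hp : Fact p.Prime] : ∀ t : T₀, (p : T₀) * t = 0 → t = 0 := by
  intro t ht
  have h1 := congrArg TrivSqZeroExt.fst ht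
  have h2 := congrArg TrivSqZeroExt.snd ht
  rw [TrivSqZeroExt.fst_mul, TrivSqZeroExt.fst_natCast, TrivSqZeroExt.fst_zero] at h1
  rw [TrivSqZeroExt.snd_mul, TrivSqZeroExt.fst_natCast, TrivSqZeroExt.snd_natCast,
    TrivSqZeroExt.snd_zero, smul_zero, add_zero] at h2
  have hp0 : ((p : ℕ) : R₀) ≠ 0 := Nat.cast_ne_zero.mpr hp.1.ne_zero
  apply TrivSqZeroExt.ext
  · rw [TrivSqZeroExt.fst_zero]
    exact (mul_eq_zero.mp h1).resolve_left hp0
  · rw [TrivSqZeroExt.snd_zero]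
    ext i : 1
    have h3 := DFunLike.congr_fun h2 i
    rw [Finsupp.smul_apply, Finsupp.zero_apply, smul_eq_mul] at h3
    rw [Finsupp.zero_apply]
    exact (mul_eq_zero.mp h3).resolve_left hp0

/-- the square-zero ideal of `T₀`. -/
noncomputable def 𝔫₀ : Ideal T₀ := RingHom.ker (TrivSqZeroExt.fstHom ℤ R₀ M₀ : T₀ →+* R₀)

theorem mem_𝔫₀ (t : T₀) : t ∈ 𝔫₀ ↔ t.fst = 0 := Iff.rfl

theorem inr_mem_𝔫₀ (m : M₀) : (TrivSqZeroExt.inr m : T₀) ∈ 𝔫₀ := TrivSqZeroExt.fst_inr R₀ m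

theorem 𝔫₀_sq : ∀ x ∈ 𝔫₀, ∀ y ∈ 𝔫₀, x * y = 0 := by
  intro x hx y hy
  rw [mem_𝔫₀] at hx hy
  apply TrivSqZeroExt.ext
  · rw [TrivSqZeroExt.fst_mul, hx, zero_mul, TrivSqZeroExt.fst_zero]
  · rw [TrivSqZeroExt.snd_mul, hx, hy, zero_smul, TrivSqZeroExt.snd_zero]
    simp

variable {p : ℕ} [hp : Fact p.Prime] {S : Type u} [CommRing S]

theorem ghostComponent_map {T : Type v} [CommRing T] (g : T →+* S) (x : WittVector p T) (n : ℕ) :
    ghostComponent n (WittVector.map g x) = g (ghostComponent n x) := by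
  rw [ghostComponent_eq_sum, ghostComponent_eq_sum, map_sum]
  refine Finset.sum_congr rfl fun i _ => ?_
  rw [map_mul, map_pow, map_pow, map_natCast, WittVector.map_coeff]

theorem map_frobenius' {T : Type v} [CommRing T] (g : T →+* S) (x : WittVector p T) :
    WittVector.map g (frobenius x) = frobenius (WittVector.map g x) := by
  ext n
  rw [WittVector.map_coeff, coeff_frobenius, coeff_frobenius, MvPolynomial.aeval_def,
    MvPolynomial.aeval_def, MvPolynomial.eval₂_comp_left]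
  have e1 : g.comp (algebraMap ℤ T) = algebraMap ℤ S := RingHom.ext_int _ _
  have e2 : ⇑g ∘ x.coeff = (WittVector.map g x).coeff :=
    funext fun i => (WittVector.map_coeff g x i).symm
  rw [e1, e2]

variable (𝔞 : Ideal S) (h𝔞 : ∀ x ∈ 𝔞, ∀ y ∈ 𝔞, x * y = 0)

include h𝔞 in
theorem exists_universal (ξ a b : WittVector p S) (ha : ∀ n, a.coeff n ∈ 𝔞)
    (hb : ∀ n, b.coeff n ∈ 𝔞) :
    ∃ (g : T₀ →+* S) (Ξ A B : WittVector p T₀), (∀ n, A.coeff n ∈ 𝔫₀) ∧ (∀ n, B.coeff n ∈ 𝔫₀) ∧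
      WittVector.map g Ξ = ξ ∧ WittVector.map g A = a ∧ WittVector.map g B = b := by
  classical
  let φ₀ : R₀ →+* S := (MvPolynomial.aeval (R := ℤ) (fun n => ξ.coeff n) : R₀ →ₐ[ℤ] S)
  letI : Algebra R₀ S := φ₀.toAlgebra
  let v : ℕ ⊕ ℕ → S := Sum.elim (fun n => a.coeff n) (fun n => b.coeff n)
  have hv : ∀ i, v i ∈ 𝔞 := by
    rintro (n | n)
    · exact ha n
    · exact hb n
  let ℓ : M₀ →ₗ[R₀] S := Finsupp.linearCombination R₀ v
  have hℓ : ∀ m, ℓ m ∈ 𝔞 := by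
    intro m
    show Finsupp.linearCombination R₀ v m ∈ 𝔞
    rw [Finsupp.linearCombination_apply]
    exact Ideal.sum_mem _ fun i _ => by
      show m i • v i ∈ 𝔞
      rw [Algebra.smul_def]
      exact 𝔞.mul_mem_left _ (hv i)
  let G : T₀ →ₐ[R₀] S := TrivSqZeroExt.lift (Algebra.ofId R₀ S) ℓ
    (fun x y => h𝔞 _ (hℓ x) _ (hℓ y))
    (fun r x => by rw [map_smul, Algebra.smul_def]; rfl)
    (fun r x => by rw [op_smul_eq_smul, map_smul, Algebra.smul_def, mul_comm]; rfl)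
  have hGinl : ∀ r : R₀, G (TrivSqZeroExt.inl r) = φ₀ r := fun r => TrivSqZeroExt.lift_apply_inl _ _ _ _ _ r
  have hGinr : ∀ m : M₀, G (TrivSqZeroExt.inr m) = ℓ m := fun m => TrivSqZeroExt.lift_apply_inr _ _ _ _ _ m
  refine ⟨(G : T₀ →+* S),
    WittVector.mk p (fun n => TrivSqZeroExt.inl (MvPolynomial.X n)),
    WittVector.mk p (fun n => TrivSqZeroExt.inr (Finsupp.single (Sum.inl n) 1)),
    WittVector.mk p (fun n => TrivSqZeroExt.inr (Finsupp.single (Sum.inr n) 1)), ?_, ?_, ?_, ?_, ?_⟩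
  · intro n; rw [coeff_mk]; exact inr_mem_𝔫₀ _
  · intro n; rw [coeff_mk]; exact inr_mem_𝔫₀ _
  · ext n
    rw [WittVector.map_coeff, coeff_mk]
    show G (TrivSqZeroExt.inl (MvPolynomial.X n)) = _
    rw [hGinl]
    show MvPolynomial.aeval (fun n => ξ.coeff n) (MvPolynomial.X n) = _
    rw [MvPolynomial.aeval_X]
  · ext n
    rw [WittVector.map_coeff, coeff_mk]
    show G (TrivSqZeroExt.inr _) = _
    rw [hGinr]
    show Finsupp.linearCombination R₀ v _ = _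
    rw [Finsupp.linearCombination_single, one_smul]
    rfl
  · ext n
    rw [WittVector.map_coeff, coeff_mk]
    show G (TrivSqZeroExt.inr _) = _
    rw [hGinr]
    show Finsupp.linearCombination R₀ v _ = _
    rw [Finsupp.linearCombination_single, one_smul]
    rfl

include h𝔞 in
theorem coeff_add_of_mem {a b : WittVector p S} (ha : ∀ n, a.coeff n ∈ 𝔞)
    (hb : ∀ n, b.coeff n ∈ 𝔞) (n : ℕ) : (a + b).coeff n = a.coeff n + b.coeff n := by
  obtain ⟨g, Ξ, A, B, hA, hB, -, rfl, rfl⟩ := exists_universal 𝔞 h𝔞 (0 : WittVector p S) a b ha hb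
  rw [← map_add, WittVector.map_coeff, coeff_add_univ 𝔫₀ 𝔫₀_sq (T₀_torsionFree p) hA hB, map_add,
    WittVector.map_coeff, WittVector.map_coeff]

include h𝔞 in
theorem coeff_mul_of_mem (ξ : WittVector p S) {a : WittVector p S} (ha : ∀ n, a.coeff n ∈ 𝔞)
    (n : ℕ) : (ξ * a).coeff n = ghostComponent n ξ * a.coeff n := by
  obtain ⟨g, Ξ, A, B, hA, hB, rfl, rfl, -⟩ := exists_universal 𝔞 h𝔞 ξ a a ha ha
  rw [← map_mul, WittVector.map_coeff, coeff_mul_univ 𝔫₀ 𝔫₀_sq (T₀_torsionFree p) Ξ hA, map_mul,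
    WittVector.map_coeff, ghostComponent_map]

include h𝔞 in
theorem coeff_frobenius_of_mem {a : WittVector p S} (ha : ∀ n, a.coeff n ∈ 𝔞)
    (n : ℕ) : (frobenius a).coeff n = (p : S) * a.coeff (n + 1) := by
  obtain ⟨g, Ξ, A, B, hA, hB, -, rfl, -⟩ := exists_universal 𝔞 h𝔞 (0 : WittVector p S) a a ha ha
  rw [← map_frobenius', WittVector.map_coeff, coeff_frobenius_univ 𝔫₀ 𝔫₀_sq (T₀_torsionFree p) hA, map_mul,
    map_natCast, WittVector.map_coeff]

end Transfer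

end Groth.Agent.H8.Rigid
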