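import Mathlib
import Groth.Agent.Lib.Helper8.Rigid.SqZT
import Groth.Agent.Lib.Helper8.WProj.NilW

set_option autoImplicit false

universe u v

namespace Groth.Agent.H8.Rigid

open WittVector Groth.Agent.H8.Disp Dieu W4c1extbt610

section JStr

variable {p : ℕ} [hp : Fact p.Prime] {S : Type u} [CommRing S]

/-- The ideal `W(𝔞)`. -/
noncomputable def WI (p : ℕ) [Fact p.Prime] {S : Type u} [CommRing S] (𝔞 : Ideal S) :
    Ideal (WittVector p S) :=
  RingHom.ker (WittVector.map (p := p) (Ideal.Quotient.mk 𝔞))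

theorem mem_WI {𝔞 : Ideal S} {x : WittVector p S} : x ∈ WI p 𝔞 ↔ ∀ n, x.coeff n ∈ 𝔞 := by
  rw [WI, RingHom.mem_ker]
  constructor
  · intro h n
    have := congrArg (fun w => w.coeff n) h
    simp only [WittVector.map_coeff, WittVector.zero_coeff] at this
    exact Ideal.Quotient.eq_zero_iff_mem.mp this
  · intro h
    ext n
    rw [WittVector.map_coeff, WittVector.zero_coeff]
    exact Ideal.Quotient.eq_zero_iff_mem.mpr (h n)

variable (𝔞 : Ideal S) (h𝔞 : ∀ x ∈ 𝔞, ∀ y ∈ 𝔞, x * y = 0) (hp𝔞 : ∀ x ∈ 𝔞, (p : S) * x = 0)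

include h𝔞 hp𝔞 in
theorem frobenius_eq_zero {a : WittVector p S} (ha : a ∈ WI p 𝔞) : frobenius a = 0 := by
  rw [mem_WI] at ha
  ext n
  rw [coeff_frobenius_of_mem 𝔞 h𝔞 ha, hp𝔞 _ (ha _), WittVector.zero_coeff]

include h𝔞 hp𝔞 in
theorem p_mul_eq_zero {a : WittVector p S} (ha : a ∈ WI p 𝔞) : (p : WittVector p S) * a = 0 := by
  rw [mem_WI] at ha
  ext n
  rw [coeff_mul_of_mem 𝔞 h𝔞 _ ha, map_natCast, hp𝔞 _ (ha _), WittVector.zero_coeff]

include h𝔞 hp𝔞 in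
theorem IV_mul_eq_zero {c a : WittVector p S} (hc : c ∈ IV p S) (ha : a ∈ WI p 𝔞) : c * a = 0 := by
  obtain ⟨w, rfl⟩ := (mem_IV_iff c).mp hc
  rw [← WittVector.verschiebung_mul_frobenius, frobenius_eq_zero 𝔞 h𝔞 hp𝔞 ha, mul_zero, map_zero]

include h𝔞 hp𝔞 in
theorem kill_mul_eq_zero {c a : WittVector p S}
    (hc : c ∈ IV p S ⊔ Ideal.span {(p : WittVector p S)}) (ha : a ∈ WI p 𝔞) : c * a = 0 := by
  obtain ⟨c₁, hc₁, c₂, hc₂, rfl⟩ := Submodule.mem_sup.mp hc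
  obtain ⟨d, rfl⟩ := Ideal.mem_span_singleton.mp hc₂
  rw [add_mul, IV_mul_eq_zero 𝔞 h𝔞 hp𝔞 hc₁ ha, zero_add, mul_comm (p : WittVector p S) d, mul_assoc,
    p_mul_eq_zero 𝔞 h𝔞 hp𝔞 ha, mul_zero]

/-- the shift `V⁻¹` on `W(𝔞)`. -/
noncomputable def sh (a : WittVector p S) : WittVector p S := a.shift 1

theorem sh_coeff (a : WittVector p S) (n : ℕ) : (sh a).coeff n = a.coeff (n + 1) := by
  rw [sh, WittVector.shift_coeff, add_comm]

theorem sh_mem {a : WittVector p S} (ha : a ∈ WI p 𝔞) : sh a ∈ WI p 𝔞 := by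
  rw [mem_WI] at ha ⊢
  intro n
  rw [sh_coeff]
  exact ha _

include h𝔞 in
theorem sh_add {a b : WittVector p S} (ha : a ∈ WI p 𝔞) (hb : b ∈ WI p 𝔞) :
    sh (a + b) = sh a + sh b := by
  have ha' := sh_mem 𝔞 ha
  have hb' := sh_mem 𝔞 hb
  rw [mem_WI] at ha hb ha' hb'
  ext n
  rw [sh_coeff, coeff_add_of_mem 𝔞 h𝔞 ha hb, coeff_add_of_mem 𝔞 h𝔞 ha' hb', sh_coeff, sh_coeff]

include h𝔞 in
theorem sh_mul (ξ : WittVector p S) {a : WittVector p S} (ha : a ∈ WI p 𝔞) :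
    sh (ξ * a) = frobenius ξ * sh a := by
  have ha' := sh_mem 𝔞 ha
  rw [mem_WI] at ha ha'
  ext n
  rw [sh_coeff, coeff_mul_of_mem 𝔞 h𝔞 _ ha, coeff_mul_of_mem 𝔞 h𝔞 _ ha', sh_coeff,
    ghostComponent_frobenius]

theorem sh_verschiebung (b : WittVector p S) : sh (verschiebung b) = b := by
  ext n
  rw [sh_coeff, WittVector.verschiebung_coeff_succ]

theorem sh_zero : sh (0 : WittVector p S) = 0 := by
  ext n
  rw [sh_coeff, WittVector.zero_coeff, WittVector.zero_coeff]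

theorem verschiebung_sh {a : WittVector p S} (h0 : a.coeff 0 = 0) : verschiebung (sh a) = a := by
  ext n
  rcases n with _ | n
  · rw [WittVector.verschiebung_coeff_zero, h0]
  · rw [WittVector.verschiebung_coeff_succ, sh_coeff]

end JStr

end Groth.Agent.H8.Rigid
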