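import Mathlib
import Groth.Agent.Lib.Helper8.Rigid.JStr
import Groth.Agent.Lib.Helper8.Disp.BCDisplay

set_option autoImplicit false

universe u v

namespace Groth.Agent.H8.Rigid

open WittVector Groth.Agent.H8.Disp Groth.Agent.H8.WProj Dieu W4c1extbt610

section GOp

variable {p : ℕ} [hp : Fact p.Prime] {S : Type u} [CommRing S]
variable (𝔞 : Ideal S) (h𝔞 : ∀ x ∈ 𝔞, ∀ y ∈ 𝔞, x * y = 0) (hp𝔞 : ∀ x ∈ 𝔞, (p : S) * x = 0)
variable {N : Type v} [AddCommGroup N] [Module (WittVector p S) N]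
variable (Φ : N →ₛₗ[(WittVector.frobenius : WittVector p S →+* WittVector p S)] N)
variable {r : ℕ} (f : (Fin r → WittVector p S) →ₗ[WittVector p S] N)
  (g : N →ₗ[WittVector p S] (Fin r → WittVector p S))

/-- The submodule `W(𝔞) N`. -/
noncomputable abbrev XJ (p : ℕ) [Fact p.Prime] {S : Type u} [CommRing S] (𝔞 : Ideal S)
    (N : Type v) [AddCommGroup N] [Module (WittVector p S) N] : Submodule (WittVector p S) N :=
  WI p 𝔞 • (⊤ : Submodule (WittVector p S) N)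

/-- the coordinate vectors. -/
noncomputable def ee (i : Fin r) : N := f (Pi.single i 1)

include f g in
theorem sum_coord (hfg : ∀ y, f (g y) = y) (y : N) : y = ∑ i, g y i • ee f i := by
  classical
  conv_lhs => rw [← hfg y, pi_eq_sum_univ' (g y), map_sum]
  refine Finset.sum_congr rfl fun i _ => ?_
  rw [map_smul]
  rfl

theorem coord_mem {y : N} (hy : y ∈ XJ p 𝔞 N) (i : Fin r) : g y i ∈ WI p 𝔞 := by
  classical
  have h1 : g y ∈ WI p 𝔞 • (⊤ : Submodule (WittVector p S) (Fin r → WittVector p S)) :=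
    Submodule.smul_top_le_comap_smul_top (WI p 𝔞) g hy
  exact (mem_smul_top_pi (WI p 𝔞) _).mp h1 i

/-- the extended `V⁻¹` on `W(𝔞) N` in coordinates. -/
noncomputable def Gfun (y : N) : N := ∑ i, sh (g y i) • Φ (ee f i)

theorem Gfun_mem {y : N} (hy : y ∈ XJ p 𝔞 N) : Gfun Φ f g y ∈ XJ p 𝔞 N :=
  Submodule.sum_mem _ fun i _ =>
    Submodule.smul_mem_smul (sh_mem 𝔞 (coord_mem 𝔞 g hy i)) Submodule.mem_top

include h𝔞 in
theorem Gfun_add {y y' : N} (hy : y ∈ XJ p 𝔞 N) (hy' : y' ∈ XJ p 𝔞 N) :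
    Gfun Φ f g (y + y') = Gfun Φ f g y + Gfun Φ f g y' := by
  rw [Gfun, Gfun, Gfun, ← Finset.sum_add_distrib]
  refine Finset.sum_congr rfl fun i _ => ?_
  rw [map_add, Pi.add_apply, sh_add 𝔞 h𝔞 (coord_mem 𝔞 g hy i) (coord_mem 𝔞 g hy' i), add_smul]

include h𝔞 in
theorem Gfun_smul (ξ : WittVector p S) {y : N} (hy : y ∈ XJ p 𝔞 N) :
    Gfun Φ f g (ξ • y) = WittVector.frobenius ξ • Gfun Φ f g y := by
  rw [Gfun, Gfun, Finset.smul_sum]
  refine Finset.sum_congr rfl fun i _ => ?_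
  rw [map_smul, Pi.smul_apply, smul_eq_mul, sh_mul 𝔞 h𝔞 ξ (coord_mem 𝔞 g hy i), mul_smul]

include h𝔞 in
theorem Gfun_smul_of_mem (hfg : ∀ y, f (g y) = y) {a : WittVector p S} (ha : a ∈ WI p 𝔞) (x : N) :
    Gfun Φ f g (a • x) = sh a • Φ x := by
  rw [Gfun]
  have h1 : ∀ i, sh (g (a • x) i) = WittVector.frobenius (g x i) * sh a := by
    intro i
    rw [map_smul, Pi.smul_apply, smul_eq_mul, mul_comm, sh_mul 𝔞 h𝔞 _ ha]
  simp_rw [h1]
  conv_rhs => rw [sum_coord f g hfg x, map_sum, Finset.smul_sum]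
  refine Finset.sum_congr rfl fun i _ => ?_
  rw [map_smulₛₗ, smul_smul, mul_comm]

theorem Gfun_zero : Gfun Φ f g 0 = 0 := by
  rw [Gfun]
  refine Finset.sum_eq_zero fun i _ => ?_
  rw [map_zero, Pi.zero_apply, sh_zero, zero_smul]

/-- `G` as a semilinear endomorphism of `W(𝔞) N`. -/
noncomputable def GX : XJ p 𝔞 N →ₛₗ[(WittVector.frobenius : WittVector p S →+* WittVector p S)]
    XJ p 𝔞 N where
  toFun y := ⟨Gfun Φ f g y.1, Gfun_mem 𝔞 Φ f g y.2⟩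
  map_add' y y' := Subtype.ext (Gfun_add 𝔞 h𝔞 Φ f g y.2 y'.2)
  map_smul' ξ y := Subtype.ext (Gfun_smul 𝔞 h𝔞 Φ f g ξ y.2)

theorem GX_coe (y : XJ p 𝔞 N) : ((GX 𝔞 h𝔞 Φ f g y : XJ p 𝔞 N) : N) = Gfun Φ f g y.1 := rfl

include h𝔞 hp𝔞 in
/-- `W(𝔞) N` is killed by `I_S + p`. -/
theorem kill_smul_eq_zero {c : WittVector p S}
    (hc : c ∈ IV p S ⊔ Ideal.span {(p : WittVector p S)}) {y : N} (hy : y ∈ XJ p 𝔞 N) :
    c • y = 0 := by
  refine Submodule.smul_induction_on hy ?_ ?_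
  · intro a ha x _
    rw [smul_smul, kill_mul_eq_zero 𝔞 h𝔞 hp𝔞 hc ha, zero_smul]
  · intro y z hy hz
    rw [smul_add, hy, hz, add_zero]

end GOp

section G2

variable {p : ℕ} [hp : Fact p.Prime] {S : Type u} [CommRing S]
variable (𝔞 : Ideal S) (h𝔞 : ∀ x ∈ 𝔞, ∀ y ∈ 𝔞, x * y = 0) (hp𝔞 : ∀ x ∈ 𝔞, (p : S) * x = 0)
variable {N : Type v} [AddCommGroup N] [Module (WittVector p S) N] (D : Display3n p S N)
variable {r : ℕ} (f : (Fin r → WittVector p S) →ₗ[WittVector p S] N)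
  (g : N →ₗ[WittVector p S] (Fin r → WittVector p S)) (hfg : ∀ y, f (g y) = y)

theorem map_mem_XJ (φ : N →ₗ[WittVector p S] N) {y : N} (hy : y ∈ XJ p 𝔞 N) : φ y ∈ XJ p 𝔞 N :=
  Submodule.smul_top_le_comap_smul_top (WI p 𝔞) φ hy

include h𝔞 hp𝔞 hfg in
theorem Lpart (L T : Submodule (WittVector p S) N) (hLT : IsCompl L T) (hQ : D.Q = L ⊔ IV p S • T)
    {y : N} (hy : y ∈ XJ p 𝔞 N) :
    ∀ h : piL L T hLT y ∈ D.Q, D.Vinv ⟨piL L T hLT y, h⟩ = 0 ∧ Gfun D.F f g (piL L T hLT y) = 0 := by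
  suffices H : y ∈ XJ p 𝔞 N ∧ ∀ h : piL L T hLT y ∈ D.Q,
      D.Vinv ⟨piL L T hLT y, h⟩ = 0 ∧ Gfun D.F f g (piL L T hLT y) = 0 from H.2
  refine Submodule.smul_induction_on hy ?_ ?_
  · intro a ha x _
    refine ⟨Submodule.smul_mem_smul ha Submodule.mem_top, fun h => ?_⟩
    have hx : piL L T hLT x ∈ D.Q := piL_mem_Q D L T hLT hQ x
    have e1 : (⟨piL L T hLT (a • x), h⟩ : D.Q) = a • ⟨piL L T hLT x, hx⟩ :=
      Subtype.ext (map_smul _ _ _)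
    constructor
    · rw [e1, D.Vinv.map_smulₛₗ, frobenius_eq_zero 𝔞 h𝔞 hp𝔞 ha, zero_smul]
    · rw [map_smul, Gfun_smul_of_mem 𝔞 h𝔞 D.F f g hfg ha]
      have := F_eq_p_smul_Vinv D ⟨piL L T hLT x, hx⟩
      simp only at this
      rw [this, smul_smul, mul_comm, p_mul_eq_zero 𝔞 h𝔞 hp𝔞 (sh_mem 𝔞 ha), zero_smul]
  · rintro y z ⟨hyX, hy⟩ ⟨hzX, hz⟩
    refine ⟨Submodule.add_mem _ hyX hzX, fun h => ?_⟩
    have hy' : piL L T hLT y ∈ D.Q := piL_mem_Q D L T hLT hQ y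
    have hz' : piL L T hLT z ∈ D.Q := piL_mem_Q D L T hLT hQ z
    have e1 : (⟨piL L T hLT (y + z), h⟩ : D.Q) = ⟨piL L T hLT y, hy'⟩ + ⟨piL L T hLT z, hz'⟩ :=
      Subtype.ext (map_add _ _ _)
    constructor
    · rw [e1, map_add, (hy hy').1, (hz hz').1, add_zero]
    · rw [map_add, Gfun_add 𝔞 h𝔞 D.F f g (map_mem_XJ 𝔞 _ hyX) (map_mem_XJ 𝔞 _ hzX), (hy hy').2,
        (hz hz').2, add_zero]

include h𝔞 hfg in
theorem Tpart {t : N} (ht : t ∈ XJ p 𝔞 N) (htI : t ∈ IV p S • (⊤ : Submodule (WittVector p S) N))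
    (h : t ∈ D.Q) : D.Vinv ⟨t, h⟩ = Gfun D.F f g t := by
  classical
  have hcI : ∀ i, g t i ∈ IV p S := by
    intro i
    have h1 : g t ∈ IV p S • (⊤ : Submodule (WittVector p S) (Fin r → WittVector p S)) :=
      Submodule.smul_top_le_comap_smul_top (IV p S) g htI
    exact (mem_smul_top_pi (IV p S) _).mp h1 i
  have hV : ∀ i, verschiebung (sh (g t i)) = g t i := fun i =>
    verschiebung_sh (constantCoeff_eq_zero_of_mem_IV (hcI i))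
  have hq : ∀ i, verschiebung (sh (g t i)) • ee f i ∈ D.Q := fun i =>
    D.IV_smul_le (Submodule.smul_mem_smul (verschiebung_mem_IV p S _) Submodule.mem_top)
  have e1 : (⟨t, h⟩ : D.Q) = ∑ i, ⟨verschiebung (sh (g t i)) • ee f i, hq i⟩ := by
    apply Subtype.ext
    rw [Submodule.coe_sum]
    simp only
    conv_lhs => rw [sum_coord f g hfg t]
    exact Finset.sum_congr rfl fun i _ => by rw [hV]
  rw [e1, map_sum, Gfun]
  exact Finset.sum_congr rfl fun i _ => D.Vinv_verschiebung_smul _ _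

include h𝔞 hp𝔞 hfg in
theorem Vinv_eq_Gfun {y : N} (hy : y ∈ XJ p 𝔞 N) (h : y ∈ D.Q) :
    D.Vinv ⟨y, h⟩ = Gfun D.F f g y := by
  obtain ⟨L, T, hLT, hQ⟩ := D.exists_normal
  have hl : piL L T hLT y ∈ D.Q := piL_mem_Q D L T hLT hQ y
  have htI := piT_mem_of_mem_Q D L T hLT hQ h
  have ht : piT L T hLT y ∈ D.Q := D.IV_smul_le htI
  have e1 : (⟨y, h⟩ : D.Q) = ⟨piL L T hLT y, hl⟩ + ⟨piT L T hLT y, ht⟩ :=
    Subtype.ext (piL_add_piT_apply L T hLT y).symm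
  obtain ⟨h1, h2⟩ := Lpart 𝔞 h𝔞 hp𝔞 D f g hfg L T hLT hQ hy hl
  have h3 := Tpart 𝔞 h𝔞 D f g hfg (map_mem_XJ 𝔞 (piT L T hLT) hy) htI ht
  rw [e1, map_add, h1, h3, zero_add]
  conv_rhs => rw [← piL_add_piT_apply L T hLT y,
    Gfun_add 𝔞 h𝔞 D.F f g (map_mem_XJ 𝔞 _ hy) (map_mem_XJ 𝔞 _ hy), h2, zero_add]

end G2

end Groth.Agent.H8.Rigid
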