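import Mathlib
import Groth.Agent.Lib.Helper8.Rigid.GOp

set_option autoImplicit false

universe u v w

namespace Groth.Agent.H8.Rigid

open WittVector Groth.Agent.H8.Disp Dieu W4c1extbt610

section TIter

variable {p : ℕ} [hp : Fact p.Prime] {S : Type u} [CommRing S]
variable {P : Type v} [AddCommGroup P] [Module (WittVector p S) P]
variable {X : Type w} [AddCommGroup X] [Module (WittVector p S) X]
variable (Vs : P →ₗ[WittVector p S] BC (frob p S) P)
variable (G : X →ₛₗ[frob p S] X)

/-- `G ∘ g` as a semilinear map for the next power of Frobenius. -/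
noncomputable def Gcomp (n : ℕ) (g : P →ₛₗ[(frob p S) ^ n] X) : P →ₛₗ[(frob p S) ^ (n + 1)] X where
  toFun y := G (g y)
  map_add' y z := by rw [map_add, map_add]
  map_smul' a y := by
    rw [g.map_smulₛₗ, G.map_smulₛₗ, pow_succ']
    rfl

theorem Gcomp_apply (n : ℕ) (g : P →ₛₗ[(frob p S) ^ n] X) (y : P) : Gcomp G n g y = G (g y) := rfl

/-- `G ∘ v` as `F^1`-semilinear map. -/
noncomputable def Gcomp₀ (v : P →ₗ[WittVector p S] X) : P →ₛₗ[(frob p S) ^ (0 + 1)] X where
  toFun y := G (v y)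
  map_add' y z := by rw [map_add, map_add]
  map_smul' a y := by
    rw [map_smul, G.map_smulₛₗ]
    rfl

/-- `G ∘ v` as `F`-semilinear map. -/
noncomputable def GcompF (v : P →ₗ[WittVector p S] X) : P →ₛₗ[frob p S] X where
  toFun y := G (v y)
  map_add' y z := by rw [map_add, map_add]
  map_smul' a y := by rw [map_smul, G.map_smulₛₗ]

/-- the operator `T`. -/
noncomputable def Top (v : P →ₗ[WittVector p S] X) : P →ₗ[WittVector p S] X :=
  (BC.lift (frob p S) (GcompF G v)).comp Vs

theorem Top_apply (v : P →ₗ[WittVector p S] X) (x : P) :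
    Top Vs G v x = BC.lift (frob p S) (GcompF G v) (Vs x) := rfl

theorem keyK' (n : ℕ) (g : P →ₛₗ[(frob p S) ^ (n + 1)] X) (z : BC ((frob p S) ^ (n + 1)) P) :
    BC.lift ((frob p S) ^ (n + 1 + 1)) (Gcomp G (n + 1) g)
      (BC.castHom (comp_pow_eq_pow_succ (frob p S) (n + 1))
        (BC.push ((frob p S) ^ (n + 1)) (frob p S) z)) =
      G (BC.lift ((frob p S) ^ (n + 1)) g z) := by
  induction z using BC.induction_on ((frob p S) ^ (n + 1)) with
  | zero => simp only [map_zero]
  | tmul c y =>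
    rw [BC.push_tmul, BC.castHom_tmul, BC.lift_tmul, BC.lift_tmul, G.map_smulₛₗ, Gcomp_apply]
  | add z₁ z₂ h₁ h₂ => rw [map_add, map_add, map_add, map_add, map_add, h₁, h₂]

theorem keyK (n : ℕ) (w : P →ₗ[WittVector p S] X) (g : P →ₛₗ[(frob p S) ^ (n + 1)] X)
    (hw : ∀ x, w x = BC.lift ((frob p S) ^ (n + 1)) g (vSharpPow Vs n x)) (ζ : BC (frob p S) P) :
    BC.lift (frob p S) (GcompF G w) ζ =
      BC.lift ((frob p S) ^ (n + 1 + 1)) (Gcomp G (n + 1) g)
        (BC.castHom (comp_pow_eq_pow_succ (frob p S) (n + 1))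
          (BC.lift (frob p S) (BC.push ((frob p S) ^ (n + 1)) (frob p S))
            (BC.map (frob p S) (vSharpPow Vs n) ζ))) := by
  induction ζ using BC.induction_on (frob p S) with
  | zero => simp only [map_zero]
  | tmul b y =>
    rw [BC.map_tmul, BC.lift_tmul, BC.lift_tmul, map_smul, map_smul, keyK']
    show b • G (w y) = _
    rw [hw]
  | add z₁ z₂ h₁ h₂ => rw [map_add, map_add, map_add, map_add, map_add, h₁, h₂]

theorem key0 (v : P →ₗ[WittVector p S] X) (z : BC (frob p S) P) :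
    BC.lift ((frob p S) ^ (0 + 1)) (Gcomp₀ G v)
      (BC.castHom (pow_one (frob p S)).symm z) = BC.lift (frob p S) (GcompF G v) z := by
  induction z using BC.induction_on (frob p S) with
  | zero => simp only [map_zero]
  | tmul b y =>
    rw [BC.castHom_tmul, BC.lift_tmul, BC.lift_tmul]
    rfl
  | add z₁ z₂ h₁ h₂ => rw [map_add, map_add, map_add, h₁, h₂]

theorem exists_lift_Top_iterate (n : ℕ) (v : P →ₗ[WittVector p S] X) :
    ∃ g : P →ₛₗ[(frob p S) ^ (n + 1)] X,
      ∀ x, (Top Vs G)^[n + 1] v x = BC.lift ((frob p S) ^ (n + 1)) g (vSharpPow Vs n x) := by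
  induction n with
  | zero =>
    refine ⟨Gcomp₀ G v, fun x => ?_⟩
    rw [Function.iterate_one, Top_apply, vSharpPow_zero_apply, key0]
  | succ n ih =>
    obtain ⟨g, hg⟩ := ih
    refine ⟨Gcomp G (n + 1) g, fun x => ?_⟩
    rw [Function.iterate_succ_apply', Top_apply, vSharpPow_succ_apply]
    exact keyK Vs G n _ g hg (Vs x)

/-- If `X` is killed by `I_S + p` and `V^#` is nilpotent then `T` is nilpotent. -/
theorem Top_iterate_eq_zero (hX : ∀ c ∈ IV p S ⊔ Ideal.span {(p : WittVector p S)}, ∀ y : X, c • y = 0)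
    (hnil : IsVNilpotent Vs) : ∃ n, ∀ v : P →ₗ[WittVector p S] X, (Top Vs G)^[n + 1] v = 0 := by
  obtain ⟨n, hn⟩ := hnil
  refine ⟨n, fun v => ?_⟩
  obtain ⟨g, hg⟩ := exists_lift_Top_iterate Vs G n v
  ext x
  rw [hg, LinearMap.zero_apply]
  have h1 := hn x
  refine Submodule.smul_induction_on h1 ?_ ?_
  · intro c hc z _
    rw [map_smul, hX c hc]
  · intro y z hy hz
    rw [map_add, hy, hz, add_zero]

end TIter

end Groth.Agent.H8.Rigid
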