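import Mathlib
import Groth.Agent.Lib.Helper8.Rigid.TIter

set_option autoImplicit false

universe u v w

namespace Groth.Agent.H8.Rigid

open WittVector Groth.Agent.H8.Disp Dieu W4c1extbt610

section BaseCase

variable {p : ℕ} [hp : Fact p.Prime] {S : Type u} [CommRing S]
variable (𝔞 : Ideal S) (h𝔞 : ∀ x ∈ 𝔞, ∀ y ∈ 𝔞, x * y = 0) (hp𝔞 : ∀ x ∈ 𝔞, (p : S) * x = 0)
variable {P : Type v} [AddCommGroup P] [Module (WittVector p S) P]
variable {P' : Type w} [AddCommGroup P'] [Module (WittVector p S) P']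

include h𝔞 hp𝔞 in
/-- Base case of rigidity: a homomorphism of displays with values in `W(𝔞) P'` vanishes when
`𝔞² = 0 = p 𝔞`. -/
theorem isHom_eq_zero_of_sqZero (D : Display3n p S P) (D' : Display3n p S P')
    (Vs : P →ₗ[WittVector p S] BC (frob p S) P) (hVs : IsVSharp D Vs) (hnil : IsVNilpotent Vs)
    (u : P →ₗ[WittVector p S] P') (hu : IsHom D D' u) (huJ : ∀ x, u x ∈ XJ p 𝔞 P') : u = 0 := by
  haveI := D'.finite
  haveI := D'.projective
  obtain ⟨r, f, g, -, -, hfg⟩ := Module.Finite.exists_comp_eq_id_of_projective (WittVector p S) P'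
  have hfg' : ∀ y, f (g y) = y := fun y => LinearMap.congr_fun hfg y
  set G := GX 𝔞 h𝔞 D'.F f g with hG
  set ub : P →ₗ[WittVector p S] XJ p 𝔞 P' := LinearMap.codRestrict (XJ p 𝔞 P') u huJ with hub
  have hfix : Top Vs G ub = ub := by
    apply linearMap_ext_Vinv D
    intro y
    have h1 := hVs.app_smul_Vinv 1 y
    rw [one_smul] at h1
    rw [Top_apply, h1, BC.lift_tmul, one_smul]
    apply Subtype.ext
    show Gfun D'.F f g (u y) = u (D.Vinv y)
    rw [hu.comm_Vinv, Vinv_eq_Gfun 𝔞 h𝔞 hp𝔞 D' f g hfg' (huJ _)]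
  obtain ⟨n, hn⟩ := Top_iterate_eq_zero Vs G
    (fun c hc y => Subtype.ext (kill_smul_eq_zero 𝔞 h𝔞 hp𝔞 hc y.2)) hnil
  have h2 : ub = 0 := by
    rw [← Function.iterate_fixed hfix (n + 1)]
    exact hn ub
  ext x
  have := congrArg (fun v : P →ₗ[WittVector p S] XJ p 𝔞 P' => ((v x : XJ p 𝔞 P') : P')) h2
  exact this

end BaseCase

end Groth.Agent.H8.Rigid
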