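import Mathlib
import Groth.Agent.Lib.Helper8.Rigid.BaseCase

set_option autoImplicit false

universe u v w

namespace Groth.Agent.H8.Rigid

open WittVector Groth.Agent.H8.Disp Dieu W4c1extbt610

section BCHom

variable {p : ℕ} [hp : Fact p.Prime] {S R : Type u} [CommRing S] [CommRing R] (f : S →+* R)
variable {P : Type v} [AddCommGroup P] [Module (WittVector p S) P]
variable {P' : Type v} [AddCommGroup P'] [Module (WittVector p S) P']

theorem map_mem_Q (D : Display3n p S P) (D' : Display3n p S P')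
    (DR : Display3n p R (BC (wmap p f) P)) (hDR : IsDispBaseChange f D DR)
    (DR' : Display3n p R (BC (wmap p f) P')) (hDR' : IsDispBaseChange f D' DR')
    (ψ : P →ₗ[WittVector p S] P') (hψ : IsHom D D' ψ) {z : BC (wmap p f) P} (hz : z ∈ DR.Q) :
    BC.map (wmap p f) ψ z ∈ DR'.Q := by
  rw [hDR.Q_eq] at hz
  have hz' : bcQuotMap f D.Q z = 0 := hz
  refine quotMapGen_ker_induction (wmap p f) (WittVector.constantCoeff : WittVector p R →+* R)
    constantCoeff_surjective D.Q (motive := fun z => BC.map (wmap p f) ψ z ∈ DR'.Q) ?_ ?_ ?_ ?_ z hz'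
  · rw [map_zero]; exact DR'.Q.zero_mem
  · intro z₁ z₂ h₁ h₂
    rw [map_add]; exact DR'.Q.add_mem h₁ h₂
  · intro b y hy
    rw [BC.map_tmul, hDR'.Q_eq]
    exact tmul_mem_ker f D'.Q b (hψ.mapsTo y hy)
  · intro b hb x
    obtain ⟨w, rfl⟩ := exists_verschiebung_eq hb
    rw [BC.map_tmul, hDR'.Q_eq]
    apply IV_smul_le_ker f D'.Q
    rw [BC.tmul_eq_smul_tmul_one]
    exact Submodule.smul_mem_smul (verschiebung_mem_IV p R w) Submodule.mem_top

theorem isHom_BC_map (D : Display3n p S P) (D' : Display3n p S P')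
    (DR : Display3n p R (BC (wmap p f) P)) (hDR : IsDispBaseChange f D DR)
    (DR' : Display3n p R (BC (wmap p f) P')) (hDR' : IsDispBaseChange f D' DR')
    (ψ : P →ₗ[WittVector p S] P') (hψ : IsHom D D' ψ) :
    IsHom DR DR' (BC.map (wmap p f) ψ) := by
  have hmaps : ∀ q : BC (wmap p f) P, q ∈ DR.Q → BC.map (wmap p f) ψ q ∈ DR'.Q :=
    fun q hq => map_mem_Q f D D' DR hDR DR' hDR' ψ hψ hq
  refine ⟨hmaps, ?_, ?_⟩
  · intro z
    induction z using BC.induction_on (wmap p f) with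
    | zero => simp only [map_zero]
    | tmul b x =>
      rw [hDR.F_tmul, BC.map_tmul, BC.map_tmul, hDR'.F_tmul, hψ.comm_F]
    | add z₁ z₂ h₁ h₂ => rw [map_add, map_add, map_add, map_add, h₁, h₂]
  · rintro ⟨z, hzQ⟩
    have hz : bcQuotMap f D.Q z = 0 := by
      rw [hDR.Q_eq] at hzQ
      exact hzQ
    have key := quotMapGen_ker_induction (wmap p f) (WittVector.constantCoeff : WittVector p R →+* R)
      constantCoeff_surjective D.Q
      (motive := fun z => ∃ (h₁ : z ∈ DR.Q) (h₂ : BC.map (wmap p f) ψ z ∈ DR'.Q),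
        BC.map (wmap p f) ψ (DR.Vinv ⟨z, h₁⟩) = DR'.Vinv ⟨BC.map (wmap p f) ψ z, h₂⟩) ?_ ?_ ?_ ?_ z hz
    · obtain ⟨_, _, h⟩ := key
      exact h
    · refine ⟨DR.Q.zero_mem, by rw [map_zero]; exact DR'.Q.zero_mem, ?_⟩
      have e1 : (⟨0, DR.Q.zero_mem⟩ : DR.Q) = 0 := rfl
      have e2 : (⟨BC.map (wmap p f) ψ 0, by rw [map_zero]; exact DR'.Q.zero_mem⟩ : DR'.Q) = 0 :=
        Subtype.ext (map_zero _)
      rw [e1, e2, map_zero, map_zero, map_zero]
    · rintro z₁ z₂ ⟨a₁, a₂, ha⟩ ⟨b₁, b₂, hb⟩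
      have hs : BC.map (wmap p f) ψ (z₁ + z₂) ∈ DR'.Q := by
        rw [map_add]; exact DR'.Q.add_mem a₂ b₂
      refine ⟨DR.Q.add_mem a₁ b₁, hs, ?_⟩
      have e1 : (⟨z₁ + z₂, DR.Q.add_mem a₁ b₁⟩ : DR.Q) = ⟨z₁, a₁⟩ + ⟨z₂, b₁⟩ := rfl
      have e2 : (⟨BC.map (wmap p f) ψ (z₁ + z₂), hs⟩ : DR'.Q) =
          ⟨BC.map (wmap p f) ψ z₁, a₂⟩ + ⟨BC.map (wmap p f) ψ z₂, b₂⟩ := Subtype.ext (map_add _ _ _)
      rw [e1, e2, map_add, map_add, map_add, ha, hb]
    · intro b y hy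
      have m₁ : BC.tmul (wmap p f) b y ∈ DR.Q := by
        rw [hDR.Q_eq]; exact tmul_mem_ker f D.Q b hy
      have m₂' : BC.tmul (wmap p f) b (ψ y) ∈ DR'.Q := by
        rw [hDR'.Q_eq]; exact tmul_mem_ker f D'.Q b (hψ.mapsTo y hy)
      have m₂ : BC.map (wmap p f) ψ (BC.tmul (wmap p f) b y) ∈ DR'.Q := by
        rw [BC.map_tmul]; exact m₂'
      refine ⟨m₁, m₂, ?_⟩
      have e2 : (⟨BC.map (wmap p f) ψ (BC.tmul (wmap p f) b y), m₂⟩ : DR'.Q) =
          ⟨BC.tmul (wmap p f) b (ψ y), m₂'⟩ := Subtype.ext (BC.map_tmul _ _ _ _)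
      rw [hDR.Vinv_tmul b ⟨y, hy⟩ m₁, BC.map_tmul, e2,
        hDR'.Vinv_tmul b ⟨ψ y, hψ.mapsTo y hy⟩ m₂', hψ.comm_Vinv ⟨y, hy⟩]
    · intro b hb x
      obtain ⟨w, rfl⟩ := exists_verschiebung_eq hb
      have hk : ∀ {N : Type v} [AddCommGroup N] [Module (WittVector p S) N] (Q : Submodule (WittVector p S) N)
          (x : N), BC.tmul (wmap p f) (WittVector.verschiebung w) x ∈ LinearMap.ker (bcQuotMap f Q) := by
        intro N _ _ Q x
        apply IV_smul_le_ker f Q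
        rw [BC.tmul_eq_smul_tmul_one]
        exact Submodule.smul_mem_smul (verschiebung_mem_IV p R w) Submodule.mem_top
      have m₁ : BC.tmul (wmap p f) (WittVector.verschiebung w) x ∈ DR.Q := by
        rw [hDR.Q_eq]; exact hk D.Q x
      have m₂' : BC.tmul (wmap p f) (WittVector.verschiebung w) (ψ x) ∈ DR'.Q := by
        rw [hDR'.Q_eq]; exact hk D'.Q (ψ x)
      have m₂ : BC.map (wmap p f) ψ (BC.tmul (wmap p f) (WittVector.verschiebung w) x) ∈ DR'.Q := by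
        rw [BC.map_tmul]; exact m₂'
      refine ⟨m₁, m₂, ?_⟩
      have e2 : (⟨BC.map (wmap p f) ψ (BC.tmul (wmap p f) (WittVector.verschiebung w) x), m₂⟩ : DR'.Q) =
          ⟨BC.tmul (wmap p f) (WittVector.verschiebung w) (ψ x), m₂'⟩ :=
        Subtype.ext (BC.map_tmul _ _ _ _)
      rw [hDR.Vinv_verschiebung_tmul w x m₁, BC.map_tmul, e2,
        hDR'.Vinv_verschiebung_tmul w (ψ x) m₂', hψ.comm_F]

end BCHom

end Groth.Agent.H8.Rigid
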