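import Mathlib
import Groth.Agent.Lib.Helper8.Rigid.BCHom

set_option autoImplicit false

universe u v w

namespace Groth.Agent.H8.Rigid

open WittVector Groth.Agent.H8.Disp Dieu W4c1extbt610

section Coord

variable {A B : Type u} [CommRing A] [CommRing B] (φ : A →+* B)
variable {N : Type v} [AddCommGroup N] [Module A N] [Module.Finite A N] [Module.Projective A N]

/-- `1 ⊗ y = 0` in `B ⊗_A N` (with `N` finite projective) forces `y ∈ (ker φ) N`. -/
theorem mem_ker_smul_top_of_tmul_eq_zero {y : N} (hy : BC.tmul φ 1 y = 0) :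
    y ∈ RingHom.ker φ • (⊤ : Submodule A N) := by
  classical
  obtain ⟨r, f, g, -, -, hfg⟩ := Module.Finite.exists_comp_eq_id_of_projective A N
  have hfg' : ∀ y, f (g y) = y := fun y => LinearMap.congr_fun hfg y
  have hc : ∀ i, g y i ∈ RingHom.ker φ := by
    intro i
    let c : N →ₛₗ[φ] B :=
      { toFun := fun y => φ (g y i)
        map_add' := fun y z => by rw [map_add, Pi.add_apply, map_add]
        map_smul' := fun a y => by rw [map_smul, Pi.smul_apply, smul_eq_mul, map_mul, smul_eq_mul] }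
    have h1 := congrArg (BC.lift φ c) hy
    rw [BC.lift_tmul, map_zero, one_smul] at h1
    exact h1
  have h2 : y = ∑ i, g y i • f (Pi.single i 1) := by
    conv_lhs => rw [← hfg' y, pi_eq_sum_univ' (g y), map_sum]
    exact Finset.sum_congr rfl fun i _ => map_smul _ _ _
  rw [h2]
  exact Submodule.sum_mem _ fun i _ => Submodule.smul_mem_smul (hc i) Submodule.mem_top

end Coord

section Chain

variable {p : ℕ} [hp : Fact p.Prime] {S : Type u} [CommRing S]

theorem WI_bot : WI p (⊥ : Ideal S) = ⊥ := by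
  rw [eq_bot_iff]
  intro x hx
  rw [mem_WI] at hx
  rw [Ideal.mem_bot]
  ext n
  rw [WittVector.zero_coeff]
  exact hx n

theorem ker_wmap_le_WI {R : Type u} [CommRing R] (f : S →+* R) :
    RingHom.ker (wmap p f) ≤ WI p (RingHom.ker f) := by
  intro x hx
  rw [mem_WI]
  intro n
  rw [RingHom.mem_ker] at hx ⊢
  rw [← WittVector.map_coeff, hx, WittVector.zero_coeff]

theorem wmap_mem_WI_map {𝔠 𝔡 : Ideal S} {a : WittVector p S} (ha : a ∈ WI p 𝔠) :
    wmap p (Ideal.Quotient.mk 𝔡) a ∈ WI p (𝔠.map (Ideal.Quotient.mk 𝔡)) := by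
  rw [mem_WI] at ha ⊢
  intro n
  rw [WittVector.map_coeff]
  exact Ideal.mem_map_of_mem _ (ha n)

variable {P : Type v} [AddCommGroup P] [Module (WittVector p S) P]
variable {P' : Type v} [AddCommGroup P'] [Module (WittVector p S) P']

/-- one step of the dévissage. -/
theorem step (hpS : IsNilpotent (p : S)) (D : Display3n p S P) (D' : Display3n p S P') (hD : IsDisplay D)
    (ψ : P →ₗ[WittVector p S] P') (hψ : IsHom D D' ψ) (𝔠 𝔡 : Ideal S)
    (hsq : ∀ x ∈ 𝔠, ∀ y ∈ 𝔠, x * y ∈ 𝔡) (hpc : ∀ x ∈ 𝔠, (p : S) * x ∈ 𝔡)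
    (h : ∀ x, ψ x ∈ WI p 𝔠 • (⊤ : Submodule (WittVector p S) P')) :
    ∀ x, ψ x ∈ WI p 𝔡 • (⊤ : Submodule (WittVector p S) P') := by
  set q : S →+* S ⧸ 𝔡 := Ideal.Quotient.mk 𝔡 with hq
  have hqs : Function.Surjective q := Ideal.Quotient.mk_surjective
  obtain ⟨DR, hDR, -⟩ := existsUnique_isDispBaseChange q D
  obtain ⟨DR', hDR', -⟩ := existsUnique_isDispBaseChange q D'
  have hDRd : IsDisplay DR := isDisplay_of_isDispBaseChange q D hD DR hDR
  obtain ⟨Vs, hVs, hnil⟩ := hDRd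
  have hhom := isHom_BC_map q D D' DR hDR DR' hDR' ψ hψ
  set 𝔞b : Ideal (S ⧸ 𝔡) := 𝔠.map q with h𝔞b
  have h1 : ∀ x ∈ 𝔞b, ∀ y ∈ 𝔞b, x * y = 0 := by
    intro x hx y hy
    obtain ⟨x', hx', rfl⟩ := (Ideal.mem_map_iff_of_surjective q hqs).mp hx
    obtain ⟨y', hy', rfl⟩ := (Ideal.mem_map_iff_of_surjective q hqs).mp hy
    rw [← map_mul]
    exact Ideal.Quotient.eq_zero_iff_mem.mpr (hsq x' hx' y' hy')
  have h2 : ∀ x ∈ 𝔞b, (p : S ⧸ 𝔡) * x = 0 := by
    intro x hx
    obtain ⟨x', hx', rfl⟩ := (Ideal.mem_map_iff_of_surjective q hqs).mp hx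
    rw [← map_natCast q, ← map_mul]
    exact Ideal.Quotient.eq_zero_iff_mem.mpr (hpc x' hx')
  have h3 : ∀ z, BC.map (wmap p q) ψ z ∈ XJ p 𝔞b (BC (wmap p q) P') := by
    intro z
    induction z using BC.induction_on (wmap p q) with
    | zero => rw [map_zero]; exact Submodule.zero_mem _
    | tmul b x =>
      rw [BC.map_tmul]
      refine Submodule.smul_induction_on (h x) ?_ ?_
      · intro a ha y _
        rw [← BC.tmul_mul_apply, BC.tmul_eq_smul_tmul_one]
        exact Submodule.smul_mem_smul (Ideal.mul_mem_left _ _ (wmap_mem_WI_map ha)) Submodule.mem_top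
      · intro y z hy hz
        rw [BC.tmul_add]
        exact Submodule.add_mem _ hy hz
    | add z₁ z₂ h₁ h₂ => rw [map_add]; exact Submodule.add_mem _ h₁ h₂
  have h4 := isHom_eq_zero_of_sqZero 𝔞b h1 h2 DR DR' Vs hVs hnil _ hhom h3
  intro x
  haveI := D'.finite
  haveI := D'.projective
  have h5 : BC.tmul (wmap p q) 1 (ψ x) = 0 := by
    have := LinearMap.congr_fun h4 (BC.tmul (wmap p q) 1 x)
    rw [BC.map_tmul, LinearMap.zero_apply] at this
    exact this
  exact mem_ker_smul_top_of_tmul_eq_zero (wmap p q) h5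

/-- Rigidity (injectivity part): a homomorphism of displays over `S` which vanishes after base
change along `f : S → R` with nilpotent kernel (and `p` nilpotent in `S`) is zero. -/
theorem isHom_eq_zero_of_BC_map_eq_zero {R : Type u} [CommRing R] (f : S →+* R)
    (hpS : IsNilpotent (p : S)) (hker : IsNilpotent (RingHom.ker f))
    (D : Display3n p S P) (D' : Display3n p S P') (hD : IsDisplay D)
    (ψ : P →ₗ[WittVector p S] P') (hψ : IsHom D D' ψ) (h0 : BC.map (wmap p f) ψ = 0) : ψ = 0 := by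
  set 𝔞 : Ideal S := RingHom.ker f with h𝔞
  set 𝔟 : Ideal S := Ideal.span {(p : S)} ⊔ 𝔞 with h𝔟
  have hpb : (p : S) ∈ 𝔟 := Ideal.mem_sup_left (Ideal.subset_span rfl)
  have hab : 𝔞 ≤ 𝔟 := le_sup_right
  have hbnil : IsNilpotent 𝔟 := by
    rw [h𝔟, ← Ideal.add_eq_sup]
    apply Commute.isNilpotent_add (Commute.all _ _) _ hker
    obtain ⟨n, hn⟩ := hpS
    exact ⟨n, by rw [Ideal.span_singleton_pow, hn, Ideal.zero_eq_bot, Ideal.span_singleton_eq_bot]⟩
  obtain ⟨K, hK⟩ := hbnil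
  have claim : ∀ k, ∀ x, ψ x ∈ WI p (𝔟 ^ k * 𝔞) • (⊤ : Submodule (WittVector p S) P') := by
    intro k
    induction k with
    | zero =>
      intro x
      haveI := D'.finite
      haveI := D'.projective
      have h5 : BC.tmul (wmap p f) 1 (ψ x) = 0 := by
        have := LinearMap.congr_fun h0 (BC.tmul (wmap p f) 1 x)
        rw [BC.map_tmul, LinearMap.zero_apply] at this
        exact this
      have h6 := mem_ker_smul_top_of_tmul_eq_zero (wmap p f) h5
      rw [pow_zero, Ideal.one_eq_top, Ideal.top_mul]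
      exact Submodule.smul_mono_left (ker_wmap_le_WI f) h6
    | succ k ih =>
      have hck : 𝔟 ^ k * 𝔞 ≤ 𝔟 := (Ideal.mul_le_right (I := 𝔟 ^ k) (J := 𝔞)).trans hab
      have e : 𝔟 ^ (k + 1) * 𝔞 = 𝔟 * (𝔟 ^ k * 𝔞) := by rw [pow_succ', mul_assoc]
      rw [e]
      exact step hpS D D' hD ψ hψ _ _
        (fun x hx y hy => Ideal.mul_mem_mul (hck hx) hy)
        (fun x hx => Ideal.mul_mem_mul hpb hx) ih
  ext x
  have h7 := claim K x
  rw [hK, Ideal.zero_eq_bot, Ideal.bot_mul, WI_bot, Submodule.bot_smul, Submodule.mem_bot] at h7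
  rw [h7, LinearMap.zero_apply]

end Chain

end Groth.Agent.H8.Rigid
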