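import Mathlib
import Groth.Agent.Lib.Helper8.Rigid.Chain
import Groth.Agent.Lib.Helper8.Disp.BCRank

set_option autoImplicit false

universe u v w

namespace Groth.Agent.H8.Rigid

open WittVector Groth.Agent.H8.Disp Dieu W4c1extbt610

section Reduced

variable {p : ℕ} [hp : Fact p.Prime] {R : Type u} [CommRing R]

/-- `W(R)` has no `p`-torsion when `R` is reduced and `p` is nilpotent in `R`. -/
theorem eq_zero_of_p_mul_eq_zero [IsReduced R] (hpR : IsNilpotent (p : R)) {x : WittVector p R}
    (hx : (p : WittVector p R) * x = 0) : x = 0 := by
  rcases subsingleton_or_nontrivial R with hs | hn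
  · ext n
    exact Subsingleton.elim _ _
  · have hp0 : (p : R) = 0 := hpR.eq_zero
    haveI : CharP R p := (CharP.charP_iff_prime_eq_zero hp.1).mpr hp0
    rw [mul_comm, ← WittVector.verschiebung_frobenius] at hx
    have h1 : WittVector.frobenius x = 0 := WittVector.verschiebung_injective p R (by rw [hx, map_zero])
    rw [WittVector.frobenius_eq_map_frobenius] at h1
    exact WittVector.map_injective _ (frobenius_inj R p) (by rw [h1, map_zero])

/-- finite projective modules over `W(R)` have no `p`-torsion, for `R` reduced with `p` nilpotent. -/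
theorem eq_zero_of_p_smul_eq_zero [IsReduced R] (hpR : IsNilpotent (p : R))
    {N : Type v} [AddCommGroup N] [Module (WittVector p R) N] [Module.Finite (WittVector p R) N]
    [Module.Projective (WittVector p R) N] {y : N} (hy : (p : WittVector p R) • y = 0) : y = 0 := by
  obtain ⟨r, f, g, -, hg, -⟩ := Module.Finite.exists_comp_eq_id_of_projective (WittVector p R) N
  apply hg
  rw [map_zero]
  funext i
  have h1 := congrFun (congrArg g hy) i
  rw [map_smul, map_zero, Pi.smul_apply, smul_eq_mul, Pi.zero_apply] at h1
  exact eq_zero_of_p_mul_eq_zero hpR h1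

end Reduced

end Groth.Agent.H8.Rigid
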