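import Mathlib
import Groth.Agent.Lib.Helper8.Rigid.Reduced

set_option autoImplicit false

universe u v w

namespace Groth.Agent.H8.Rigid

open WittVector Groth.Agent.H8.Disp Dieu W4c1extbt610

section HomMod

variable {p : ℕ} [hp : Fact p.Prime] {S : Type u} [CommRing S]
variable {P : Type v} [AddCommGroup P] [Module (WittVector p S) P]
variable {P' : Type v} [AddCommGroup P'] [Module (WittVector p S) P']

/-- `ψ` is a homomorphism of 3n-displays modulo `J P'`. -/
def HomMod (D : Display3n p S P) (D' : Display3n p S P') (J : Ideal (WittVector p S))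
    (ψ : P →ₗ[WittVector p S] P') : Prop :=
  (∀ x, ψ (D.F x) - D'.F (ψ x) ∈ J • (⊤ : Submodule (WittVector p S) P')) ∧
    ∀ y : D.Q, ∃ y' : D'.Q, ψ y - (y' : P') ∈ J • (⊤ : Submodule (WittVector p S) P') ∧
      ψ (D.Vinv y) - D'.Vinv y' ∈ J • (⊤ : Submodule (WittVector p S) P')

variable {D : Display3n p S P} {D' : Display3n p S P'}

theorem HomMod.mono {J J' : Ideal (WittVector p S)} (hJ : J ≤ J') {ψ : P →ₗ[WittVector p S] P'}
    (h : HomMod D D' J ψ) : HomMod D D' J' ψ := by
  refine ⟨fun x => Submodule.smul_mono_left hJ (h.1 x), fun y => ?_⟩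
  obtain ⟨y', h1, h2⟩ := h.2 y
  exact ⟨y', Submodule.smul_mono_left hJ h1, Submodule.smul_mono_left hJ h2⟩

theorem isHom_of_homMod_bot {ψ : P →ₗ[WittVector p S] P'} (h : HomMod D D' ⊥ ψ) : IsHom D D' ψ := by
  have hb : ∀ z : P', z ∈ (⊥ : Ideal (WittVector p S)) • (⊤ : Submodule (WittVector p S) P') → z = 0 := by
    intro z hz
    rwa [Submodule.bot_smul, Submodule.mem_bot] at hz
  have hmaps : ∀ q : P, q ∈ D.Q → ψ q ∈ D'.Q := by
    intro q hq
    obtain ⟨y', h1, -⟩ := h.2 ⟨q, hq⟩
    have := sub_eq_zero.mp (hb _ h1)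
    simp only at this
    rw [this]
    exact y'.2
  refine ⟨hmaps, fun x => sub_eq_zero.mp (hb _ (h.1 x)), fun q => ?_⟩
  obtain ⟨y', h1, h2⟩ := h.2 q
  have e1 : (⟨ψ q, hmaps q q.2⟩ : D'.Q) = y' := Subtype.ext (sub_eq_zero.mp (hb _ h1))
  rw [e1]
  exact sub_eq_zero.mp (hb _ h2)

theorem HomMod.p_smul {J J' : Ideal (WittVector p S)}
    (hJ : ∀ a ∈ J, (p : WittVector p S) * a ∈ J') {ψ : P →ₗ[WittVector p S] P'}
    (h : HomMod D D' J ψ) : HomMod D D' J' ((p : WittVector p S) • ψ) := by
  have key : ∀ z : P', z ∈ J • (⊤ : Submodule (WittVector p S) P') →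
      (p : WittVector p S) • z ∈ J' • (⊤ : Submodule (WittVector p S) P') := by
    intro z hz
    refine Submodule.smul_induction_on hz ?_ ?_
    · intro a ha x _
      rw [smul_smul]
      exact Submodule.smul_mem_smul (hJ a ha) Submodule.mem_top
    · intro y z hy hz
      rw [smul_add]
      exact Submodule.add_mem _ hy hz
  refine ⟨fun x => ?_, fun y => ?_⟩
  · have h1 := key _ (h.1 x)
    rw [smul_sub] at h1
    rw [LinearMap.smul_apply, LinearMap.smul_apply]
    have h2 : D'.F ((p : WittVector p S) • ψ x) = (p : WittVector p S) • D'.F (ψ x) := by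
      rw [D'.F.map_smulₛₗ, map_natCast]
    rw [h2]
    exact h1
  · obtain ⟨y', h1, h2⟩ := h.2 y
    refine ⟨(p : WittVector p S) • y', ?_, ?_⟩
    · have := key _ h1
      rw [smul_sub] at this
      rw [LinearMap.smul_apply]
      exact this
    · have := key _ h2
      rw [smul_sub] at this
      rw [LinearMap.smul_apply, D'.Vinv.map_smulₛₗ, map_natCast]
      exact this

end HomMod

end Groth.Agent.H8.Rigid
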