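import Mathlib
import Groth.Agent.Lib.Helper8.Rigid.HomMod

set_option autoImplicit false

universe u v w

namespace Groth.Agent.H8.Rigid

open WittVector Groth.Agent.H8.Disp Dieu W4c1extbt610

section PMul

variable {p : ℕ} [hp : Fact p.Prime] {S : Type u} [CommRing S]

theorem p_mul_mem_WI (𝔠 𝔡 : Ideal S) (hsq : ∀ x ∈ 𝔠, ∀ y ∈ 𝔠, x * y ∈ 𝔡)
    (hpc : ∀ x ∈ 𝔠, (p : S) * x ∈ 𝔡) {a : WittVector p S} (ha : a ∈ WI p 𝔠) :
    (p : WittVector p S) * a ∈ WI p 𝔡 := by
  set q : S →+* S ⧸ 𝔡 := Ideal.Quotient.mk 𝔡 with hq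
  have hqs : Function.Surjective q := Ideal.Quotient.mk_surjective
  have h1 : ∀ x ∈ 𝔠.map q, ∀ y ∈ 𝔠.map q, x * y = 0 := by
    intro x hx y hy
    obtain ⟨x', hx', rfl⟩ := (Ideal.mem_map_iff_of_surjective q hqs).mp hx
    obtain ⟨y', hy', rfl⟩ := (Ideal.mem_map_iff_of_surjective q hqs).mp hy
    rw [← map_mul]
    exact Ideal.Quotient.eq_zero_iff_mem.mpr (hsq x' hx' y' hy')
  have h2 : ∀ x ∈ 𝔠.map q, (p : S ⧸ 𝔡) * x = 0 := by
    intro x hx
    obtain ⟨x', hx', rfl⟩ := (Ideal.mem_map_iff_of_surjective q hqs).mp hx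
    rw [← map_natCast q, ← map_mul]
    exact Ideal.Quotient.eq_zero_iff_mem.mpr (hpc x' hx')
  have h3 := p_mul_eq_zero (𝔠.map q) h1 h2 (wmap_mem_WI_map (𝔡 := 𝔡) ha)
  rw [WI, RingHom.mem_ker, map_mul, map_natCast]
  exact h3

end PMul

section T1

variable {p : ℕ} [hp : Fact p.Prime] {S R : Type u} [CommRing S] [CommRing R] (f : S →+* R)
variable {P : Type v} [AddCommGroup P] [Module (WittVector p S) P]
variable {P' : Type v} [AddCommGroup P'] [Module (WittVector p S) P']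

theorem tmul_sub' {A B : Type u} [CommRing A] [CommRing B] (g : A →+* B) {N : Type v} [AddCommGroup N]
    [Module A N] (b : B) (x y : N) :
    BC.tmul g b (x - y) = BC.tmul g b x - BC.tmul g b y := by
  rw [sub_eq_add_neg, BC.tmul_add, BC.tmul_neg, ← sub_eq_add_neg]

theorem wmap_surjective (hf : Function.Surjective f) : Function.Surjective (wmap p f) :=
  WittVector.map_surjective f hf

/-- every element of `Q_R` is of the form `1 ⊗ y` with `y ∈ Q` (for surjective `f`). -/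
theorem exists_tmul_one_of_mem_Q (hf : Function.Surjective f) (D : Display3n p S P)
    (DR : Display3n p R (BC (wmap p f) P)) (hDR : IsDispBaseChange f D DR)
    {z : BC (wmap p f) P} (hz : z ∈ DR.Q) : ∃ y : D.Q, z = BC.tmul (wmap p f) 1 (y : P) := by
  rw [hDR.Q_eq] at hz
  have hz' : bcQuotMap f D.Q z = 0 := hz
  refine quotMapGen_ker_induction (wmap p f) (WittVector.constantCoeff : WittVector p R →+* R)
    constantCoeff_surjective D.Q (motive := fun z => ∃ y : D.Q, z = BC.tmul (wmap p f) 1 (y : P))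
    ?_ ?_ ?_ ?_ z hz'
  · exact ⟨0, by rw [Submodule.coe_zero, BC.tmul_zero]⟩
  · rintro z₁ z₂ ⟨y₁, rfl⟩ ⟨y₂, rfl⟩
    exact ⟨y₁ + y₂, by rw [Submodule.coe_add, BC.tmul_add]⟩
  · intro b y hy
    obtain ⟨a, rfl⟩ := wmap_surjective f hf b
    refine ⟨⟨a • y, D.Q.smul_mem a hy⟩, ?_⟩
    rw [← BC.tmul_mul_apply, one_mul]
  · intro b hb x
    obtain ⟨w, rfl⟩ := exists_verschiebung_eq hb
    obtain ⟨w', rfl⟩ := wmap_surjective f hf w
    refine ⟨⟨WittVector.verschiebung w' • x,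
      D.IV_smul_le (Submodule.smul_mem_smul (verschiebung_mem_IV p S w') Submodule.mem_top)⟩, ?_⟩
    rw [← BC.tmul_mul_apply, one_mul, wmap_verschiebung]

theorem tmul_one_mem_Q (D : Display3n p S P)
    (DR : Display3n p R (BC (wmap p f) P)) (hDR : IsDispBaseChange f D DR) (y : D.Q) :
    BC.tmul (wmap p f) 1 (y : P) ∈ DR.Q := by
  rw [hDR.Q_eq]
  exact tmul_mem_ker f D.Q 1 y.2

/-- (T1) -/
theorem homMod_of_isHom_BC_map (hf : Function.Surjective f) (D : Display3n p S P) (D' : Display3n p S P')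
    (DR : Display3n p R (BC (wmap p f) P)) (hDR : IsDispBaseChange f D DR)
    (DR' : Display3n p R (BC (wmap p f) P')) (hDR' : IsDispBaseChange f D' DR')
    (ψ : P →ₗ[WittVector p S] P') (hχ : IsHom DR DR' (BC.map (wmap p f) ψ)) :
    HomMod D D' (RingHom.ker (wmap p f)) ψ := by
  haveI := D'.finite
  haveI := D'.projective
  refine ⟨fun x => ?_, fun y => ?_⟩
  · apply mem_ker_smul_top_of_tmul_eq_zero (wmap p f)
    have h1 := hχ.comm_F (BC.tmul (wmap p f) 1 x)
    rw [hDR.F_tmul, BC.map_tmul, BC.map_tmul, hDR'.F_tmul, map_one] at h1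
    rw [tmul_sub', h1, sub_self]
  · have hy1 := tmul_one_mem_Q f D DR hDR y
    have h1 := hχ.mapsTo _ hy1
    obtain ⟨y', hy'⟩ := exists_tmul_one_of_mem_Q f hf D' DR' hDR' h1
    rw [BC.map_tmul] at hy'
    refine ⟨y', ?_, ?_⟩
    · apply mem_ker_smul_top_of_tmul_eq_zero (wmap p f)
      rw [tmul_sub', hy', sub_self]
    · apply mem_ker_smul_top_of_tmul_eq_zero (wmap p f)
      have h2 := hχ.comm_Vinv ⟨_, hy1⟩
      have hy1' := tmul_one_mem_Q f D' DR' hDR' y'
      have e1 : (⟨BC.map (wmap p f) ψ (BC.tmul (wmap p f) 1 (y : P)), h1⟩ : DR'.Q) =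
          ⟨BC.tmul (wmap p f) 1 (y' : P'), hy1'⟩ := by
        apply Subtype.ext
        show BC.map (wmap p f) ψ (BC.tmul (wmap p f) 1 (y : P)) = BC.tmul (wmap p f) 1 (y' : P')
        rw [BC.map_tmul]
        exact hy'
      simp only at h2
      rw [hDR.Vinv_tmul 1 y hy1, BC.map_tmul, e1, hDR'.Vinv_tmul 1 y' hy1', map_one] at h2
      rw [tmul_sub', h2, sub_self]

end T1

section Coker

variable {p : ℕ} [hp : Fact p.Prime] {S R : Type u} [CommRing S] [CommRing R] (f : S →+* R)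
variable {P : Type v} [AddCommGroup P] [Module (WittVector p S) P]
variable {P' : Type v} [AddCommGroup P'] [Module (WittVector p S) P']

theorem exists_lift_BC_map (hf : Function.Surjective f) [Module.Projective (WittVector p S) P]
    (χ : BC (wmap p f) P →ₗ[WittVector p R] BC (wmap p f) P') :
    ∃ ψ₀ : P →ₗ[WittVector p S] P', BC.map (wmap p f) ψ₀ = χ := by
  letI : Module (WittVector p S) (BC (wmap p f) P') := Module.compHom _ (wmap p f)
  let ι' : P' →ₗ[WittVector p S] BC (wmap p f) P' :=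
    { toFun := fun y => BC.tmul (wmap p f) 1 y
      map_add' := fun y z => BC.tmul_add _ _ _ _
      map_smul' := fun a y => by
        rw [RingHom.id_apply, ← BC.tmul_apply_eq, BC.tmul_eq_smul_tmul_one]
        rfl }
  let gχ : P →ₗ[WittVector p S] BC (wmap p f) P' :=
    { toFun := fun x => χ (BC.tmul (wmap p f) 1 x)
      map_add' := fun y z => by rw [BC.tmul_add, map_add]
      map_smul' := fun a y => by
        rw [RingHom.id_apply, ← BC.tmul_apply_eq, BC.tmul_eq_smul_tmul_one, map_smul]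
        rfl }
  have hsurj : Function.Surjective ι' := by
    intro z
    induction z using BC.induction_on (wmap p f) with
    | zero => exact ⟨0, map_zero _⟩
    | tmul b y =>
      obtain ⟨a, rfl⟩ := wmap_surjective f hf b
      exact ⟨a • y, (BC.tmul_apply_eq _ _ _).symm⟩
    | add z₁ z₂ h₁ h₂ =>
      obtain ⟨y₁, rfl⟩ := h₁
      obtain ⟨y₂, rfl⟩ := h₂
      exact ⟨y₁ + y₂, map_add _ _ _⟩
  obtain ⟨ψ₀, hψ₀⟩ := Module.projective_lifting_property ι' gχ hsurj
  refine ⟨ψ₀, ?_⟩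
  apply BC.ext
  intro x
  rw [BC.map_tmul]
  exact LinearMap.congr_fun hψ₀ x

/-- Rigidity, cokernel part. -/
theorem exists_isHom_BC_map_eq_pow_smul (hf : Function.Surjective f)
    (hpS : IsNilpotent (p : S)) (hker : IsNilpotent (RingHom.ker f))
    (D : Display3n p S P) (D' : Display3n p S P')
    (DR : Display3n p R (BC (wmap p f) P)) (hDR : IsDispBaseChange f D DR)
    (DR' : Display3n p R (BC (wmap p f) P')) (hDR' : IsDispBaseChange f D' DR')
    (χ : BC (wmap p f) P →ₗ[WittVector p R] BC (wmap p f) P') (hχ : IsHom DR DR' χ) :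
    ∃ (n : ℕ) (ψ : P →ₗ[WittVector p S] P'), IsHom D D' ψ ∧
      BC.map (wmap p f) ψ = ((p : WittVector p R) ^ n) • χ := by
  haveI := D.projective
  obtain ⟨ψ₀, rfl⟩ := exists_lift_BC_map f hf χ
  set 𝔞 : Ideal S := RingHom.ker f with h𝔞
  set 𝔟 : Ideal S := Ideal.span {(p : S)} ⊔ 𝔞 with h𝔟
  have hpb : (p : S) ∈ 𝔟 := Ideal.mem_sup_left (Ideal.subset_span rfl)
  have hab : 𝔞 ≤ 𝔟 := le_sup_right
  have hbnil : IsNilpotent 𝔟 := by
    rw [h𝔟, ← Ideal.add_eq_sup]
    apply Commute.isNilpotent_add (Commute.all _ _) _ hker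
    obtain ⟨n, hn⟩ := hpS
    exact ⟨n, by rw [Ideal.span_singleton_pow, hn, Ideal.zero_eq_bot, Ideal.span_singleton_eq_bot]⟩
  obtain ⟨K, hK⟩ := hbnil
  have claim : ∀ k, HomMod D D' (WI p (𝔟 ^ k * 𝔞)) (((p : WittVector p S) ^ k) • ψ₀) := by
    intro k
    induction k with
    | zero =>
      simp only [pow_zero, one_smul, one_mul]
      exact (homMod_of_isHom_BC_map f hf D D' DR hDR DR' hDR' ψ₀ hχ).mono (ker_wmap_le_WI f)
    | succ k ih =>
      have hck : 𝔟 ^ k * 𝔞 ≤ 𝔟 := (Ideal.mul_le_right (I := 𝔟 ^ k) (J := 𝔞)).trans hab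
      have e : 𝔟 ^ (k + 1) * 𝔞 = 𝔟 * (𝔟 ^ k * 𝔞) := by rw [pow_succ', mul_assoc]
      have e2 : ((p : WittVector p S) ^ (k + 1)) • ψ₀ =
          (p : WittVector p S) • (((p : WittVector p S) ^ k) • ψ₀) := by
        rw [pow_succ', mul_smul]
      rw [e, e2]
      exact ih.p_smul (fun a ha => p_mul_mem_WI _ _
        (fun x hx y hy => Ideal.mul_mem_mul (hck hx) hy)
        (fun x hx => Ideal.mul_mem_mul hpb hx) ha)
  have hK' := claim K
  rw [hK, Ideal.zero_eq_bot, Ideal.bot_mul, WI_bot] at hK'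
  refine ⟨K, ((p : WittVector p S) ^ K) • ψ₀, isHom_of_homMod_bot hK', ?_⟩
  apply BC.ext
  intro x
  rw [BC.map_tmul, LinearMap.smul_apply, LinearMap.smul_apply, BC.map_tmul, ← BC.tmul_apply_eq,
    BC.tmul_eq_smul_tmul_one, map_pow, map_natCast]

end Coker

section Inj

variable {p : ℕ} [hp : Fact p.Prime] {S R : Type u} [CommRing S] [CommRing R] (f : S →+* R)
variable {P : Type v} [AddCommGroup P] [Module (WittVector p S) P]
variable {P' : Type v} [AddCommGroup P'] [Module (WittVector p S) P']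

theorem isHom_sub {D : Display3n p S P} {D' : Display3n p S P'} {ψ χ : P →ₗ[WittVector p S] P'}
    (hψ : IsHom D D' ψ) (hχ : IsHom D D' χ) : IsHom D D' (ψ - χ) := by
  have hmaps : ∀ q : P, q ∈ D.Q → (ψ - χ) q ∈ D'.Q := fun q hq =>
    D'.Q.sub_mem (hψ.mapsTo q hq) (hχ.mapsTo q hq)
  refine ⟨hmaps, fun x => ?_, fun q => ?_⟩
  · rw [LinearMap.sub_apply, LinearMap.sub_apply, hψ.comm_F, hχ.comm_F, map_sub]
  · rw [LinearMap.sub_apply, hψ.comm_Vinv, hχ.comm_Vinv, ← map_sub]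
    rfl

theorem BC_map_sub (ψ χ : P →ₗ[WittVector p S] P') :
    BC.map (wmap p f) (ψ - χ) = BC.map (wmap p f) ψ - BC.map (wmap p f) χ := by
  apply BC.ext
  intro x
  rw [LinearMap.sub_apply, BC.map_tmul, BC.map_tmul, BC.map_tmul, LinearMap.sub_apply, tmul_sub']

/-- Rigidity, injectivity part. -/
theorem eq_of_BC_map_eq (hpS : IsNilpotent (p : S)) (hker : IsNilpotent (RingHom.ker f))
    (D : Display3n p S P) (D' : Display3n p S P') (hD : IsDisplay D)
    (ψ χ : P →ₗ[WittVector p S] P') (hψ : IsHom D D' ψ) (hχ : IsHom D D' χ)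
    (h : BC.map (wmap p f) ψ = BC.map (wmap p f) χ) : ψ = χ := by
  have h1 := isHom_eq_zero_of_BC_map_eq_zero f hpS hker D D' hD (ψ - χ) (isHom_sub hψ hχ)
    (by rw [BC_map_sub, h, sub_self])
  exact sub_eq_zero.mp h1

end Inj

end Groth.Agent.H8.Rigid
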